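import Cfsg.Agent.SZS.Alg
import Cfsg.Agent.H56.Fields

/-! Project SZR (notes/SZR.md): a standard subgroup `Sz(8)` whose centralizer has 2-rank at least 2. -/

set_option autoImplicit false

namespace Cfsg.Agent.SZR

open Subgroup H13 H49 SZS

/-- the field with 8 elements, `k 2` is a root of `x ^ 3 + x + 1`, addition is xor -/
abbrev K8 : Type := H56.TF H56.F8

def k (n : ℕ) : K8 := H56.TF.mk H56.F8 n

instance titsK8 : Tits K8 where
  θ := { toFun := fun x => x * x * (x * x)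
         map_one' := by decide +kernel
         map_mul' := by decide +kernel
         map_zero' := by decide +kernel
         map_add' := by decide +kernel }
  θθ := by decide +kernel

theorem θ_K8 : ∀ x : K8, θ x = x ^ 4 := by decide +kernel

theorem card_K8 : Nat.card K8 = 8 := by rw [Nat.card_eq_fintype_card]; rfl

theorem par : Par K8 1 := ⟨le_rfl, card_K8, θ_K8⟩

theorem ψ_K8 (x : K8) : ψ x = x * x := by
  have : ∀ x : K8, θ (x * x) = x := by decide +kernel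
  rw [← this x, ψ_θ, this]

theorem gen_l : ∀ a : K8, a ≠ 0 → ∃ i : ℕ, k 2 ^ i = a := fun a ha => by
  have : ∀ a : K8, a ≠ 0 → ∃ i : Fin 7, k 2 ^ i.val = a := by decide +kernel
  obtain ⟨i, hi⟩ := this a ha
  exact ⟨i, hi⟩

theorem add_self_K8 : ∀ x : K8, x + x = 0 := by decide +kernel

/-- the trace, with values `0`, `1`; its kernel is `{0, k 2, k 4, k 6}` -/
def tr (x : K8) : K8 := x + x * x + θ x

/-- coordinates `(v, a, λ)` of `W / Z` -/
abbrev V : Type := K8 × K8 × K8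

/-- the squaring map of `W` -/
def Qf (c ν : K8) (p : V) : K8 :=
  N p.2.1 + (ν + p.1) * p.2.2 + c * (p.2.1 * p.2.2 * (p.2.1 * p.2.2))

/-- the commutator map of `W` -/
def Bf (c ν : K8) (p q : V) : K8 := Qf c ν (p + q) + Qf c ν p + Qf c ν q

/-- the action of the torus on `W / Z` -/
def eta (p : V) : V := (p.1, k 2 * p.2.1, N (k 2) * p.2.2)

/-- `g` is an additive map of `{p | D p.1}` that induces `γ` on the values of the squaring map -/
structure Iso (D : K8 → Prop) (c ν : K8) (g : V → V) (γ : K8 → K8) : Prop where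
  mem : ∀ p, D p.1 → D (g p).1
  add : ∀ p q, D p.1 → D q.1 → g (p + q) = g p + g q
  gadd : ∀ a b, γ (a + b) = γ a + γ b
  ginj : Function.Injective γ
  sq : ∀ p, D p.1 → Qf c ν (g p) = γ (Qf c ν p)

/-- the transvection `1, k 2, k 4 ↦ 1, k 2, k 6` -/
def γ₁ (x : K8) : K8 := if x.val < 4 then x else x + k 2
/-- the transvection `1, k 2, k 4 ↦ 1, k 3, k 4` -/
def γ₂ (x : K8) : K8 := if x.val % 4 < 2 then x else x + 1

/-- A frame: `A ≅ Sz(8)`, `R` a Sylow 2-subgroup of the tightly embedded subgroup `C(A)`. -/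
structure Fr (G : Type*) [Group G] where
  A : Subgroup G
  M : Model A K8
  R : Subgroup G
  ti : ∀ g x, x ∈ 𝒞(A) → x ∈ cj g 𝒞(A) → x * x = 1 → x ≠ 1 → g ∈ 𝒩(A)
  syl : IsSylowOf 2 R 𝒞(A)
  ne : R ≠ ⊥

namespace Fr

variable {G : Type*} [Group G] (f : Fr G)

noncomputable def u (a b : K8) : G := f.M.u a b
noncomputable def z (b : K8) : G := f.u 0 b
def Q : Subgroup G := f.M.U.map f.A.subtype
def Z : Subgroup G := f.M.Z.map f.A.subtype
def S : Subgroup G := f.R ⊔ f.Q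
def U : Subgroup G := f.R ⊔ f.Z
/-- the torus element of order 7 -/
noncomputable def h0 : G := f.M.h (Units.mk0 (k 4) (by decide +kernel))

open Classical in
/-- the coordinates `(r, a, b)` of `x = r * u a b ∈ S` -/
noncomputable def dc (x : G) : G × K8 × K8 :=
  if h : ∃ t : G × K8 × K8, t.1 ∈ f.R ∧ x = t.1 * f.u t.2.1 t.2.2 then h.choose else (1, 0, 0)
noncomputable def pr (x : G) : G := (f.dc x).1
noncomputable def pa (x : G) : K8 := (f.dc x).2.1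
noncomputable def pb (x : G) : K8 := (f.dc x).2.2

/-- the conjugate frame -/
noncomputable def conj (g : G) : Fr G where
  A := cj g f.A
  M := f.M.ofEquiv (cjEquiv g f.A).symm
  R := cj g f.R
  ti := fun a x h1 h2 h3 h4 => by
    rw [← cj_centralizer] at h1 h2
    have := f.ti (g⁻¹ * a * g) (g⁻¹ * x * g) (mem_cj.1 h1)
      (by rw [cj_cj, mem_cj] at h2; rw [mem_cj]; convert h2 using 1; group)
      (by rw [show g⁻¹ * x * g * (g⁻¹ * x * g) = g⁻¹ * (x * x) * g by group, h3]; simp)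
      (fun e => h4 (by rw [show x = g * (g⁻¹ * x * g) * g⁻¹ by group, e]; simp))
    rwa [← cj_normalizer, mem_cj]
  syl := cj_centralizer g f.A ▸ f.syl.cj g
  ne := fun h => f.ne (cj_eq_bot_iff.1 h)

/-- frames at conjugate subgroups -/
def Cj (f f' : Fr G) : Prop := ∃ g, f'.A = cj g f.A

/-- `x` is an involution centralizing a conjugate of `A` -/
def Inv (x : G) : Prop := x * x = 1 ∧ x ≠ 1 ∧ ∃ g, x ∈ cj g 𝒞(f.A)

/-- The ambient data: the simple normal subgroup `L ≥ A` and a link. -/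
structure Amb (L : Subgroup G) : Prop where
  nl : L.Normal
  simple : IsSimpleGroup L
  le : f.A ≤ L
  lk : ∃ g, g ∉ 𝒩(f.A) ∧ ∃ t ∈ cj g 𝒞(f.A), t ∈ 𝒩(f.A) ∧ t * t = 1 ∧ t ≠ 1

/-- The wreathed configuration. -/
structure Al (f f' : Fr G) : Prop where
  cj : Cj f f'
  S : f'.S = f.S
  R : f'.R = f.Q
  Q : f'.Q = f.R

/-- The main configuration: `R` is elementary and its conjugate by `g` is the graph of `φ : R → Z`. -/
structure Be (g : G) (φ : G → K8) : Prop where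
  el : ∀ r ∈ f.R, r * r = 1
  nS : g ∈ 𝒩(f.S)
  nA : g ∉ 𝒩(f.A)
  mul : ∀ r ∈ f.R, ∀ s ∈ f.R, φ (r * s) = φ r + φ s
  inj : ∀ r ∈ f.R, φ r = 0 → r = 1
  mem : ∀ r ∈ f.R, r * f.z (φ r) ∈ cj g 𝒞(f.A)

end Fr

/-- A Sylow 2-subgroup `W` of `N(S)` and a torus element `h` normalizing it. -/
structure Wf (G : Type*) [Group G] extends Fr G where
  φ : G → K8
  W : Subgroup G
  h : G
  lam : G → K8
  el : ∀ r ∈ R, r * r = 1
  φ_mul : ∀ r ∈ R, ∀ s ∈ R, φ (r * s) = φ r + φ s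
  φ_inj : ∀ r ∈ R, φ r = 0 → r = 1
  φ_rng : (∀ v, ∃ r ∈ R, φ r = v) ∨ ∀ v, tr v = 0 ↔ ∃ r ∈ R, φ r = v
  sylW : IsSylowOf 2 W 𝒩(toFr.S)
  lam_mul : ∀ v ∈ W, ∀ w ∈ W, lam (v * w) = lam v + lam w
  lam_ker : ∀ w ∈ W, lam w = 0 ↔ w ∈ toFr.S
  lam_sur : ∀ a, ∃ w ∈ W, lam w = a
  w_r : ∀ w ∈ W, ∀ r ∈ R, w * r * w⁻¹ = r * toFr.z (lam w * φ r)
  w_z : ∀ w ∈ W, ∀ b, w * toFr.z b = toFr.z b * w
  w_a : ∀ w ∈ W, ∀ x ∈ toFr.S, toFr.pa (w * x * w⁻¹) = toFr.pa x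
  h_odd : Odd (orderOf h)
  h_W : h ∈ 𝒩(W)
  h_r : ∀ r ∈ R, h * r = r * h
  h_u : ∀ a b, ∃ b', h * toFr.u a b * h⁻¹ = toFr.u (k 2 * a) b'
  h_z : ∀ b, h * toFr.z b * h⁻¹ = toFr.z (N (k 2) * b)

/-- the image of `φ` -/
def Wf.D {G : Type*} [Group G] (w : Wf G) (v : K8) : Prop := ∃ r ∈ w.R, w.φ r = v

/-- Coordinates for `W / Z`. -/
structure Cd (G : Type*) [Group G] extends Wf G where
  co : G → V
  c : K8
  ν : K8
  co_mul : ∀ v ∈ W, ∀ w ∈ W, co (v * w) = co v + co w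
  co_ker : ∀ w ∈ W, co w = 0 ↔ w ∈ toFr.Z
  co_mem : ∀ w ∈ W, toWf.D (co w).1
  co_sur : ∀ p : V, toWf.D p.1 → ∃ w ∈ W, co w = p
  co_r : ∀ r ∈ R, co r = (φ r, 0, 0)
  co_u : ∀ a b, co (toFr.u a b) = (0, a, 0)
  co_lam : ∀ w ∈ W, (co w).2.2 = lam w
  co_h : ∀ w ∈ W, co (h * w * h⁻¹) = eta (co w)
  sq : ∀ w ∈ W, w * w = toFr.z (Qf c ν (co w))

/-- `n` acts as `g` on `W / Z` and as `γ` on `Z` -/
structure Cd.Act {G : Type*} [Group G] (d : Cd G) (n : G) (g : V → V) (γ : K8 → K8) : Prop where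
  iso : Iso d.D d.c d.ν g γ
  w : ∀ w ∈ d.W, d.co (n * w * n⁻¹) = g (d.co w)
  z : ∀ b, n * d.z b * n⁻¹ = d.z (γ b)

namespace Cd

variable {G : Type*} [Group G] (d : Cd G)

/-- the subgroup `{z b | b.val < 4}` of `Z` -/
noncomputable def Z2 : Subgroup G := zpowers (d.z 1) ⊔ zpowers (d.z (k 2))

/-- the stabilizer in `N(W)` of the flag `⟨z 1⟩ < Z2 < Z` -/
noncomputable def T0 : Subgroup G := 𝒩(d.W) ⊓ 𝒞[d.z 1] ⊓ 𝒩(d.Z2)

/-- `T` is a Sylow 2-subgroup of the flag stabilizer that induces both transvections -/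
structure Top (T : Subgroup G) : Prop where
  syl : IsSylowOf 2 T d.T0
  le : d.W ≤ T
  t1 : ∃ t ∈ T, ∃ g, d.Act t g γ₁
  t2 : ∃ t ∈ T, ∃ g, d.Act t g γ₂

end Cd

end Cfsg.Agent.SZR
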